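import Mathlib.Algebra.Category.Ring.FilteredColimits
import Mathlib.Algebra.Category.Ring.Under.Basic
import Mathlib.CategoryTheory.Limits.Constructions.Over.Connected
import Mathlib.CategoryTheory.Limits.Preserves.Over
import Mathlib.CategoryTheory.Limits.Types.Filtered
import Mathlib.RingTheory.FinitePresentation
import Mathlib.RingTheory.IntegralClosure.IsIntegralClosure.Basic
import Mathlib.RingTheory.Ideal.Quotient.Operations

/-!
# Finitely presented levels of an algebra

A level of an `A`-algebra `B` is a finite set of elements of `B` together with finitely many relations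
among them; it gives a finitely presented algebra mapping to `B`.
-/

set_option autoImplicit false
set_option linter.style.haveILetI false

universe u

open CategoryTheory CategoryTheory.Limits MvPolynomial

noncomputable section

namespace Groth.Agent.LvSys47

/-- Colimit criterion for filtered diagrams of algebras. -/
theorem nonempty_isColimit {A : CommRingCat.{u}} {J : Type u} [SmallCategory J] [IsFiltered J]
    (D : J ⥤ Under A) (c : Cocone D)
    (hs : ∀ x : c.pt.right, ∃ j y, (c.ι.app j).right y = x)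
    (hi : ∀ j (y y' : (D.obj j).right), (c.ι.app j).right y = (c.ι.app j).right y' →
      ∃ (k : J) (f : j ⟶ k), (D.map f).right y = (D.map f).right y') : Nonempty (IsColimit c) := by
  haveI : IsConnected J := IsFiltered.isConnected J
  haveI : HasColimit (D ⋙ Under.forget A) := inferInstance
  haveI : HasColimit D := hasColimit_of_created D (Under.forget A)
  haveI : ReflectsColimit D (Under.forget A ⋙ forget CommRingCat.{u}) :=
    reflectsColimit_of_reflectsIsomorphisms _ _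
  refine ⟨isColimitOfReflects (Under.forget A ⋙ forget CommRingCat.{u})
    (Types.FilteredColimit.isColimitOf _ _ ?_ ?_)⟩
  · intro x
    obtain ⟨j, y, h⟩ := hs x
    exact ⟨j, y, h.symm⟩
  · intro i j xi xj h
    obtain ⟨k₁, f₁, g₁, -⟩ : ∃ (k : J) (f : i ⟶ k) (g : j ⟶ k), True :=
      ⟨_, IsFiltered.leftToMax i j, IsFiltered.rightToMax i j, trivial⟩
    have h' : (c.ι.app k₁).right ((D.map f₁).right xi) = (c.ι.app k₁).right ((D.map g₁).right xj) := by
      have a := congrArg (fun m => m.right xi) (c.w f₁)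
      have b := congrArg (fun m => m.right xj) (c.w g₁)
      exact (a.trans h).trans b.symm
    obtain ⟨k, f, hf⟩ := hi k₁ _ _ h'
    refine ⟨k, f₁ ≫ f, g₁ ≫ f, ?_⟩
    show (D.map (f₁ ≫ f)).right xi = (D.map (g₁ ≫ f)).right xj
    rw [D.map_comp, D.map_comp]
    exact hf

variable (A : Type u) [CommRing A]

/-- A finite set of elements with finitely many relations. -/
structure Lv (B : Type u) [CommRing B] [Algebra A B] : Type u where
  s : Finset B
  J : Ideal (MvPolynomial s A)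
  fg : J.FG
  le : J ≤ RingHom.ker (aeval (fun b : s => (b : B)))

variable {A}
variable {B C E : Type u} [CommRing B] [Algebra A B] [CommRing C] [Algebra A C] [CommRing E] [Algebra A E]

namespace Lv

/-- The algebra of a level. -/
abbrev Q (l : Lv A B) : Type u := MvPolynomial l.s A ⧸ l.J

instance (l : Lv A B) : Algebra.FinitePresentation A l.Q := Algebra.FinitePresentation.quotient l.fg

/-- The map to the algebra. -/
def toAlg (l : Lv A B) : l.Q →ₐ[A] B :=
  Ideal.Quotient.liftₐ l.J (aeval fun b : l.s => (b : B)) fun _ ha => l.le ha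

/-- The generators. -/
def gen (l : Lv A B) (b : l.s) : l.Q := Ideal.Quotient.mk l.J (X b)

@[simp] lemma toAlg_gen (l : Lv A B) (b : l.s) : l.toAlg (l.gen b) = (b : B) := by
  show aeval (fun b : l.s => (b : B)) (X b) = _
  rw [aeval_X]

lemma adjoin_gen (l : Lv A B) : Algebra.adjoin A (Set.range l.gen) = ⊤ := by
  have h : Set.range l.gen = (Ideal.Quotient.mkₐ A l.J) '' Set.range (X : l.s → MvPolynomial l.s A) := by
    rw [← Set.range_comp]; rfl
  rw [h, ← AlgHom.map_adjoin, adjoin_range_X, Algebra.map_top]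
  exact (AlgHom.range_eq_top _).mpr Ideal.Quotient.mk_surjective

lemma hom_ext {l : Lv A B} {R : Type u} [CommRing R] [Algebra A R] {φ ψ : l.Q →ₐ[A] R}
    (h : ∀ b, φ (l.gen b) = ψ (l.gen b)) : φ = ψ :=
  Ideal.Quotient.algHom_ext _ (MvPolynomial.algHom_ext h)

/-- `m` receives `l` along `f`. -/
def Le (f : B →ₐ[A] C) (l : Lv A B) (m : Lv A C) : Prop :=
  ∃ h : ∀ b : l.s, f b ∈ m.s, l.J.map (rename fun b : l.s => (⟨f b, h b⟩ : m.s)) ≤ m.J

/-- The map of algebras of levels. -/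
def hom {f : B →ₐ[A] C} {l : Lv A B} {m : Lv A C} (h : Le f l m) : l.Q →ₐ[A] m.Q :=
  Ideal.Quotient.liftₐ l.J ((Ideal.Quotient.mkₐ A m.J).comp (rename fun b : l.s => (⟨f b, h.1 b⟩ : m.s)))
    fun a ha => by
      show Ideal.Quotient.mk m.J (rename _ a) = 0
      exact Ideal.Quotient.eq_zero_iff_mem.mpr (h.2 (Ideal.mem_map_of_mem _ ha))

lemma hom_gen {f : B →ₐ[A] C} {l : Lv A B} {m : Lv A C} (h : Le f l m) (b : l.s) :
    hom h (l.gen b) = m.gen ⟨f b, h.1 b⟩ := by
  show Ideal.Quotient.mk m.J (rename _ (X b)) = _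
  rw [rename_X]
  rfl

lemma toAlg_comp_hom {f : B →ₐ[A] C} {l : Lv A B} {m : Lv A C} (h : Le f l m) :
    m.toAlg.comp (hom h) = f.comp l.toAlg :=
  hom_ext fun b => by rw [AlgHom.comp_apply, AlgHom.comp_apply, hom_gen, toAlg_gen, toAlg_gen]

lemma toAlg_hom {f : B →ₐ[A] C} {l : Lv A B} {m : Lv A C} (h : Le f l m) (x : l.Q) :
    m.toAlg (hom h x) = f (l.toAlg x) := DFunLike.congr_fun (toAlg_comp_hom h) x

lemma le_refl (l : Lv A B) : Le (AlgHom.id A B) l l :=
  ⟨fun b => b.2, by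
    rw [show (fun b : l.s => (⟨AlgHom.id A B b, b.2⟩ : l.s)) = id from rfl, rename_id]
    exact (Ideal.map_id l.J).le⟩

lemma le_trans {f : B →ₐ[A] C} {g : C →ₐ[A] E} {k : B →ₐ[A] E} (hk : g.comp f = k)
    {l : Lv A B} {m : Lv A C} {n : Lv A E} (h : Le f l m) (h' : Le g m n) : Le k l n := by
  obtain ⟨h₁, h₂⟩ := h
  obtain ⟨h₁', h₂'⟩ := h'
  refine ⟨fun b => by subst hk; exact h₁' ⟨f b, h₁ b⟩, Ideal.map_le_iff_le_comap.mpr fun x hx => ?_⟩
  have h3 := h₂' (Ideal.mem_map_of_mem (rename fun c : m.s => (⟨g c, h₁' c⟩ : n.s))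
    (h₂ (Ideal.mem_map_of_mem _ hx)))
  rw [rename_rename] at h3
  subst hk
  exact h3

lemma hom_refl {l : Lv A B} (h : Le (AlgHom.id A B) l l) : hom h = AlgHom.id A l.Q :=
  hom_ext fun b => by rw [hom_gen]; rfl

lemma hom_trans {f : B →ₐ[A] C} {g : C →ₐ[A] E} {k : B →ₐ[A] E} (hk : g.comp f = k)
    {l : Lv A B} {m : Lv A C} {n : Lv A E} (h : Le f l m) (h' : Le g m n) (h'' : Le k l n) :
    (hom h').comp (hom h) = hom h'' :=
  hom_ext fun b => by
    rw [AlgHom.comp_apply, hom_gen, hom_gen, hom_gen]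
    exact congrArg n.gen (Subtype.ext (DFunLike.congr_fun hk (b : B)))

instance : Preorder (Lv A B) where
  le l m := Le (AlgHom.id A B) l m
  le_refl := le_refl
  le_trans _ _ _ h h' := le_trans (AlgHom.id_comp _) h h'

/-- Transition maps. -/
def incl {l m : Lv A B} (h : l ≤ m) : l.Q →ₐ[A] m.Q := hom (f := AlgHom.id A B) h

lemma toAlg_incl {l m : Lv A B} (h : l ≤ m) (x : l.Q) : m.toAlg (incl h x) = l.toAlg x :=
  toAlg_hom (f := AlgHom.id A B) h x

lemma incl_gen {l m : Lv A B} (h : l ≤ m) (b : l.s) : incl h (l.gen b) = m.gen ⟨b, h.1 b⟩ :=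
  hom_gen (f := AlgHom.id A B) h b

lemma hom_natural {f : B →ₐ[A] C} {l l' : Lv A B} {m m' : Lv A C} (h : Le f l m) (h' : Le f l' m')
    (hl : l ≤ l') (hm : m ≤ m') : (incl hm).comp (hom h) = (hom h').comp (incl hl) := by
  refine hom_ext fun b => ?_
  rw [AlgHom.comp_apply, AlgHom.comp_apply, hom_gen, incl_gen, incl_gen, hom_gen]

/-- A level with given elements and no relations. -/
def ofFinset (s : Finset B) : Lv A B := ⟨s, ⊥, Submodule.fg_bot, bot_le⟩

open Classical in
theorem exists_ge_two (l l' : Lv A B) : ∃ m : Lv A B, l ≤ m ∧ l' ≤ m := by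
  let i₁ : l.s → ↥(l.s ∪ l'.s) := fun b => ⟨b.1, Finset.mem_union_left _ b.2⟩
  let i₂ : l'.s → ↥(l.s ∪ l'.s) := fun b => ⟨b.1, Finset.mem_union_right _ b.2⟩
  refine ⟨⟨l.s ∪ l'.s, l.J.map (rename i₁) ⊔ l'.J.map (rename i₂),
    Submodule.FG.sup (Ideal.FG.map l.fg _) (Ideal.FG.map l'.fg _), sup_le ?_ ?_⟩, ⟨fun b => Finset.mem_union_left _ b.2, le_sup_left⟩,
    ⟨fun b => Finset.mem_union_right _ b.2, le_sup_right⟩⟩
  · rw [Ideal.map_le_iff_le_comap]
    intro x hx
    show aeval _ (rename i₁ x) = 0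
    rw [aeval_rename]
    exact l.le hx
  · rw [Ideal.map_le_iff_le_comap]
    intro x hx
    show aeval _ (rename i₂ x) = 0
    rw [aeval_rename]
    exact l'.le hx

open Classical in
/-- Enlarge the set of elements. -/
theorem exists_ge_mem (l : Lv A B) (t : Finset B) :
    ∃ m : Lv A B, l ≤ m ∧ l.s ⊆ m.s ∧ t ⊆ m.s := by
  obtain ⟨m, h, h'⟩ := exists_ge_two l (ofFinset t)
  exact ⟨m, h, fun b hb => h.1 ⟨b, hb⟩, fun b hb => h'.1 ⟨b, hb⟩⟩

open Classical in
/-- Kill finitely many elements of the kernel. -/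
theorem exists_kill (l : Lv A B) (S : Finset l.Q) (hS : ∀ x ∈ S, l.toAlg x = 0) :
    ∃ (m : Lv A B) (h : l ≤ m), m.s = l.s ∧ Function.Surjective (incl h) ∧
      (∀ x ∈ S, incl h x = 0) ∧
      ∀ (C : Type u) [CommRing C] [Algebra A C] (f : B →ₐ[A] C) (n : Lv A C) (hn : Le f l n),
        (∀ x ∈ S, hom hn x = 0) → Le f m n := by
  choose r hr using fun x : l.Q => Ideal.Quotient.mk_surjective (I := l.J) x
  let J' : Ideal (MvPolynomial l.s A) := l.J ⊔ Ideal.span (S.image r : Set (MvPolynomial l.s A))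
  have hle : J' ≤ RingHom.ker (aeval (fun b : l.s => (b : B))) := by
    refine sup_le l.le (Ideal.span_le.mpr fun p hp => ?_)
    obtain ⟨x, hx, rfl⟩ := Finset.mem_image.mp hp
    show aeval (fun b : l.s => (b : B)) (r x) = 0
    rw [← hS x hx]
    conv_rhs => rw [← hr x]
    rfl
  let m : Lv A B := ⟨l.s, J', Submodule.FG.sup l.fg ⟨_, rfl⟩, hle⟩
  have h : l ≤ m := ⟨fun b => b.2, by
    rw [show (fun b : l.s => (⟨AlgHom.id A B b, b.2⟩ : l.s)) = id from rfl, rename_id]
    exact ((Ideal.map_id l.J).le).trans le_sup_left⟩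
  have hincl : ∀ p, incl h (Ideal.Quotient.mk l.J p) = Ideal.Quotient.mk J' p := fun p => by
    show Ideal.Quotient.mk J' (rename _ p) = _
    rw [show (fun b : l.s => (⟨AlgHom.id A B b, h.1 b⟩ : l.s)) = id from rfl, rename_id]
    rfl
  refine ⟨m, h, rfl, fun y => ?_, fun x hx => ?_, fun C _ _ f n hn h0 => ?_⟩
  · obtain ⟨p, rfl⟩ := Ideal.Quotient.mk_surjective y
    exact ⟨_, hincl p⟩
  · rw [← hr x, hincl]
    exact Ideal.Quotient.eq_zero_iff_mem.mpr
      (le_sup_right (a := l.J) (Ideal.subset_span (Finset.mem_image_of_mem r hx)))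
  · refine ⟨hn.1, ?_⟩
    rw [Ideal.map_sup, Ideal.map_span]
    refine sup_le hn.2 (Ideal.span_le.mpr ?_)
    rintro _ ⟨p, hp, rfl⟩
    obtain ⟨x, hx, rfl⟩ := Finset.mem_image.mp hp
    have := h0 x hx
    rw [← hr x] at this
    exact Ideal.Quotient.eq_zero_iff_mem.mp this

/-- An element killed in the algebra is killed at a bigger level. -/
theorem exists_incl_eq (l : Lv A B) (x y : l.Q) (hxy : l.toAlg x = l.toAlg y) :
    ∃ (m : Lv A B) (h : l ≤ m), incl h x = incl h y := by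
  obtain ⟨m, h, -, -, h0, -⟩ := exists_kill l {x - y} fun z hz => by
    rw [Finset.mem_singleton.mp hz, map_sub, hxy, sub_self]
  refine ⟨m, h, sub_eq_zero.mp ?_⟩
  rw [← map_sub]
  exact h0 _ (Finset.mem_singleton_self _)

open Classical in
/-- Receive a level along `f`. -/
theorem exists_ge_of_le (f : B →ₐ[A] C) (l : Lv A B) (m : Lv A C) :
    ∃ m' : Lv A C, m ≤ m' ∧ Le f l m' ∧ (↑m'.s : Set C) = ↑m.s ∪ f '' ↑l.s := by
  let i₁ : m.s → ↥(m.s ∪ l.s.image f) := fun b => ⟨b.1, Finset.mem_union_left _ b.2⟩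
  let i₂ : l.s → ↥(m.s ∪ l.s.image f) := fun b =>
    ⟨f b.1, Finset.mem_union_right _ (Finset.mem_image_of_mem f b.2)⟩
  refine ⟨⟨m.s ∪ l.s.image f, m.J.map (rename i₁) ⊔ l.J.map (rename i₂),
    Submodule.FG.sup (Ideal.FG.map m.fg _) (Ideal.FG.map l.fg _), sup_le ?_ ?_⟩, ⟨fun b => Finset.mem_union_left _ b.2, le_sup_left⟩,
    ⟨fun b => Finset.mem_union_right _ (Finset.mem_image_of_mem f b.2), le_sup_right⟩, ?_⟩
  · rw [Ideal.map_le_iff_le_comap]
    intro x hx
    show aeval _ (rename i₁ x) = 0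
    rw [aeval_rename]
    exact m.le hx
  · rw [Ideal.map_le_iff_le_comap]
    intro x hx
    show aeval _ (rename i₂ x) = 0
    rw [aeval_rename]
    show aeval (fun b : l.s => f b) x = 0
    rw [← comp_aeval_apply]
    exact (congrArg f (l.le hx)).trans (map_zero f)
  · simp

/-- A level map is surjective when all generators are images of generators. -/
theorem hom_surjective {f : B →ₐ[A] C} {l : Lv A B} {m : Lv A C} (h : Le f l m)
    (hs : (↑m.s : Set C) ⊆ f '' ↑l.s) : Function.Surjective (hom h) := by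
  rw [← AlgHom.range_eq_top (hom h), eq_top_iff, ← adjoin_gen m, Algebra.adjoin_le_iff]
  rintro _ ⟨c, rfl⟩
  obtain ⟨b, hb, hbc⟩ := hs c.2
  exact ⟨l.gen ⟨b, hb⟩, (hom_gen h _).trans (congrArg m.gen (Subtype.ext hbc))⟩

theorem isIntegral_of_gen (l : Lv A B) (h : ∀ b, IsIntegral A (l.gen b)) : Algebra.IsIntegral A l.Q := by
  refine ⟨fun x => ?_⟩
  have hx : x ∈ Algebra.adjoin A (Set.range l.gen) := by rw [adjoin_gen]; trivial
  exact (Algebra.adjoin_le_iff (S := integralClosure A l.Q)).mpr (by rintro _ ⟨b, rfl⟩; exact h b) hx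

theorem exists_gen_mem {l : Lv A B} {x : B} (hx : x ∈ l.s) : ∃ y, l.toAlg y = x :=
  ⟨l.gen ⟨x, hx⟩, toAlg_gen _ _⟩

end Lv

end Groth.Agent.LvSys47

end
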