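import Groth.Agent.LvSys47.Basic
import Mathlib.Algebra.Category.Ring.Constructions
import Mathlib.Algebra.Polynomial.Lifts

/-!
# Levels of a diagram `B → D ← D'` with `D' → D` a nilpotent thickening
-/

set_option autoImplicit false
set_option linter.style.haveILetI false

universe u

open CategoryTheory CategoryTheory.Limits

noncomputable section

namespace Groth.Agent.LvSys47

namespace Lv

variable {R : Type u} [CommRing R] {B C : Type u} [CommRing B] [Algebra R B] [CommRing C] [Algebra R C]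

open Classical in
/-- Add exactly the given elements. -/
theorem exists_ge_add (l : Lv R B) (t : Finset B) :
    ∃ m : Lv R B, l ≤ m ∧ (↑m.s : Set B) = ↑l.s ∪ ↑t := by
  obtain ⟨m, h, -, hs⟩ := exists_ge_of_le (AlgHom.id R B) (ofFinset t) l
  exact ⟨m, h, hs.trans (by simp [ofFinset])⟩

/-- A surjective map with nilpotent kernel can be realised with nilpotent kernel. -/
theorem exists_kill_nil (f : B →ₐ[R] C) (hf : ∀ x ∈ RingHom.ker f.toRingHom, IsNilpotent x)
    {l : Lv R B} {m : Lv R C} (h : Le f l m) (hs : Function.Surjective (hom h)) :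
    ∃ (l' : Lv R B) (_ : l ≤ l') (h' : Le f l' m), Function.Surjective (hom h') ∧
      ∀ x ∈ RingHom.ker (hom h').toRingHom, IsNilpotent x := by
  classical
  obtain ⟨G, hG⟩ := Algebra.FinitePresentation.ker_fG_of_surjective (hom h) hs
  have hG0 : ∀ x ∈ G, hom h x = 0 := fun x hx => hG.le (Ideal.subset_span hx)
  have hn : ∀ x ∈ G, IsNilpotent (l.toAlg x) := fun x hx => hf _ (by
    show f (l.toAlg x) = 0
    rw [← toAlg_hom h, hG0 x hx, map_zero])
  choose! k hk using hn
  obtain ⟨l', hl, -, hsur, h0, hup⟩ := exists_kill l (G.image fun x => x ^ (k x + 1)) fun y hy => by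
    obtain ⟨x, hx, rfl⟩ := Finset.mem_image.mp hy
    rw [map_pow, pow_succ, hk x hx, zero_mul]
  have h' : Le f l' m := hup C f m h fun y hy => by
    obtain ⟨x, hx, rfl⟩ := Finset.mem_image.mp hy
    rw [map_pow, hG0 x hx, zero_pow (Nat.succ_ne_zero _)]
  have hc : ∀ x, hom h' (incl hl x) = hom h x := fun x => DFunLike.congr_fun
    (hom_trans (f := AlgHom.id R B) (g := f) (AlgHom.comp_id f) hl h' h) x
  refine ⟨l', hl, h', fun z => ?_, fun y hy => ?_⟩
  · obtain ⟨x, rfl⟩ := hs z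
    exact ⟨incl hl x, hc x⟩
  · obtain ⟨x, rfl⟩ := hsur y
    have hx : x ∈ RingHom.ker (hom h).toRingHom := by
      show hom h x = 0
      rw [← hc]
      exact hy
    rw [← hG] at hx
    have hle : (Ideal.span (↑G : Set l.Q)).map (incl hl).toRingHom ≤ nilradical l'.Q := by
      rw [Ideal.map_span, Ideal.span_le]
      rintro _ ⟨g, hg, rfl⟩
      refine mem_nilradical.mpr ⟨k g + 1, ?_⟩
      show (incl hl g) ^ (k g + 1) = 0
      rw [← map_pow]
      exact h0 _ (Finset.mem_image_of_mem _ hg)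
    exact mem_nilradical.mp (hle (Ideal.mem_map_of_mem _ hx))

end Lv

open Lv

variable {R B D D' : Type u} [CommRing R] [CommRing B] [CommRing D] [CommRing D'] [Algebra R B]
  [Algebra R D] [Algebra R D'] (f : B →ₐ[R] D) (i : D' →ₐ[R] D)

/-- The conditions on a triple of levels. -/
structure SqOk (l : Lv R B) (n : Lv R D) (l' : Lv R D') : Prop where
  le : Lv.Le f l n
  le' : Lv.Le i l' n
  surj' : Function.Surjective (hom le')
  nil' : ∀ x ∈ RingHom.ker (hom le').toRingHom, IsNilpotent x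
  surjF : Function.Surjective f → Function.Surjective (hom le)
  nilF : Function.Surjective f → (∀ x ∈ RingHom.ker f.toRingHom, IsNilpotent x) →
    ∀ x ∈ RingHom.ker (hom le).toRingHom, IsNilpotent x
  intF : f.toRingHom.IsIntegral → (hom le).toRingHom.IsIntegral

/-- Indices. -/
def SqIdx : Type u := {p : Lv R B × Lv R D × Lv R D' // SqOk f i p.1 p.2.1 p.2.2}

instance : Preorder (SqIdx f i) := Preorder.lift fun p => p.1

variable {f i}

theorem exists_sqOk (hi : Function.Surjective i) (hnil : ∀ x ∈ RingHom.ker i.toRingHom, IsNilpotent x)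
    (l : Lv R B) (n : Lv R D) (l' : Lv R D') :
    ∃ k : SqIdx f i, l ≤ k.1.1 ∧ n ≤ k.1.2.1 ∧ l' ≤ k.1.2.2 := by
  classical
  choose gi hgi using hi
  let t₀ : Finset D := n.s ∪ l'.s.image i
  -- coefficients of equations and preimages
  obtain ⟨p, hp⟩ : ∃ p : D → Polynomial B, f.toRingHom.IsIntegral →
      ∀ d, (p d).Monic ∧ Polynomial.eval₂ f.toRingHom d (p d) = 0 := by
    by_cases h : f.toRingHom.IsIntegral
    · choose p hp using h
      exact ⟨p, fun _ => hp⟩
    · exact ⟨fun _ => 0, fun h' => absurd h' h⟩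
  obtain ⟨gf, hgf⟩ : ∃ gf : D → B, Function.Surjective f → ∀ d, f (gf d) = d := by
    by_cases h : Function.Surjective f
    · choose g hg using h
      exact ⟨g, fun _ => hg⟩
    · exact ⟨fun _ => 0, fun h' => absurd h' h⟩
  obtain ⟨l₁, hl₁, hls⟩ := exists_ge_add l (t₀.image gf ∪ t₀.biUnion fun d => (p d).support.image (p d).coeff)
  obtain ⟨l'₁, hl'₁, hl's⟩ := exists_ge_add l' ((n.s ∪ l₁.s.image f).image gi)
  obtain ⟨n₁, hn₁, hle₁, hn₁s⟩ := exists_ge_of_le f l₁ n
  obtain ⟨n₂, hn₂, hle₂', hn₂s⟩ := exists_ge_of_le i l'₁ n₁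
  have hle₂ : Lv.Le f l₁ n₂ := Lv.le_trans (AlgHom.id_comp f) hle₁ hn₂
  have hts : (↑n₂.s : Set D) = ↑t₀ ∪ f '' ↑l₁.s := by
    rw [hn₂s, hn₁s, hl's, Set.image_union, Finset.coe_image, Finset.coe_union, Finset.coe_image,
      Set.image_image]
    simp only [hgi, Set.image_id', t₀, Finset.coe_union, Finset.coe_image]
    ext x
    simp only [Set.mem_union]
    tauto
  have hsub' : (↑n₂.s : Set D) ⊆ i '' ↑l'₁.s := by
    rw [hts, hl's, Set.image_union, Finset.coe_image, Finset.coe_union, Finset.coe_image, Set.image_image]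
    simp only [hgi, Set.image_id', t₀, Finset.coe_union, Finset.coe_image]
    intro x
    simp only [Set.mem_union]
    tauto
  have ht₀n : ∀ d ∈ t₀, d ∈ n₂.s := fun d hd => by
    rw [← Finset.mem_coe, hts]; exact Or.inl hd
  -- integrality relations
  obtain ⟨q, hq⟩ : ∃ q : {d // d ∈ t₀} → Polynomial l₁.Q, f.toRingHom.IsIntegral →
      ∀ d, (q d).Monic ∧ Polynomial.map l₁.toAlg.toRingHom (q d) = p d.1 := by
    by_cases h : f.toRingHom.IsIntegral
    · have : ∀ d : {d // d ∈ t₀}, ∃ q : Polynomial l₁.Q,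
          q.Monic ∧ Polynomial.map l₁.toAlg.toRingHom q = p d.1 := by
        intro d
        have hlift : p d.1 ∈ Polynomial.lifts l₁.toAlg.toRingHom := by
          rw [Polynomial.lifts_iff_coeff_lifts]
          intro k
          by_cases hk : k ∈ (p d.1).support
          · obtain ⟨y, hy⟩ := exists_gen_mem (l := l₁) (x := (p d.1).coeff k) (by
              rw [← Finset.mem_coe, hls]
              exact Or.inr (Finset.mem_union_right _ (Finset.mem_biUnion.mpr
                ⟨d.1, d.2, Finset.mem_image_of_mem _ hk⟩)))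
            exact ⟨y, hy⟩
          · exact ⟨0, by rw [map_zero, Polynomial.notMem_support_iff.mp hk]⟩
        obtain ⟨q, hq, -, hm⟩ := Polynomial.lifts_and_natDegree_eq_and_monic hlift (hp h d.1).1
        exact ⟨q, hm, hq⟩
      choose q hq using this
      exact ⟨q, fun _ => hq⟩
    · exact ⟨fun _ => 0, fun h' => absurd h' h⟩
  let S : Finset n₂.Q := if f.toRingHom.IsIntegral then
    Finset.univ.image fun d : {d // d ∈ t₀} =>
      Polynomial.eval₂ (hom hle₂).toRingHom (n₂.gen ⟨d.1, ht₀n d.1 d.2⟩) (q d) else ∅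
  obtain ⟨n₃, hn₃, hn₃s, -, h0, -⟩ := exists_kill n₂ S fun x hx => by
    simp only [S] at hx
    split_ifs at hx with hf
    · obtain ⟨d, -, rfl⟩ := Finset.mem_image.mp hx
      have e := Polynomial.hom_eval₂ (q d) (hom hle₂).toRingHom n₂.toAlg.toRingHom (n₂.gen ⟨d.1, ht₀n d.1 d.2⟩)
      have hcomp : n₂.toAlg.toRingHom.comp (hom hle₂).toRingHom = f.toRingHom.comp l₁.toAlg.toRingHom :=
        RingHom.ext fun y => toAlg_hom hle₂ y
      rw [hcomp, ← Polynomial.eval₂_map, (hq hf d).2] at e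
      refine e.trans ?_
      show Polynomial.eval₂ f.toRingHom (n₂.toAlg (n₂.gen _)) (p d.1) = 0
      rw [toAlg_gen]
      exact (hp hf d.1).2
    · simp at hx
  have hle₃ : Lv.Le f l₁ n₃ := Lv.le_trans (AlgHom.id_comp f) hle₂ hn₃
  have hle₃' : Lv.Le i l'₁ n₃ := Lv.le_trans (AlgHom.id_comp i) hle₂' hn₃
  have hs₃' : Function.Surjective (hom hle₃') := hom_surjective hle₃' (by rw [hn₃s]; exact hsub')
  have hs₃ : Function.Surjective f → Function.Surjective (hom hle₃) := fun hf => by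
    refine hom_surjective hle₃ ?_
    rw [hn₃s, hts]
    refine Set.union_subset (fun d hd => ?_) subset_rfl
    refine ⟨gf d, ?_, hgf hf d⟩
    rw [hls]
    exact Or.inr (Finset.mem_union_left _ (Finset.mem_image_of_mem gf hd))
  have hint₃ : f.toRingHom.IsIntegral → (hom hle₃).toRingHom.IsIntegral := fun hf => by
    letI := (hom hle₃).toRingHom.toAlgebra
    haveI : IsScalarTower R l₁.Q n₃.Q := IsScalarTower.of_algebraMap_eq fun r => ((hom hle₃).commutes r).symm
    intro y
    have hy : y ∈ Algebra.adjoin R (Set.range n₃.gen) := by rw [adjoin_gen]; trivial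
    refine (Algebra.adjoin_le_iff (S := (integralClosure l₁.Q n₃.Q).restrictScalars R)).mpr ?_ hy
    rintro _ ⟨⟨c, hc⟩, rfl⟩
    have hc' : c ∈ (↑n₂.s : Set D) := hn₃s ▸ hc
    rw [hts] at hc'
    rcases hc' with hc' | ⟨b, hb, hbc⟩
    · refine ⟨q ⟨c, hc'⟩, (hq hf _).1, ?_⟩
      have e := h0 (Polynomial.eval₂ (hom hle₂).toRingHom (n₂.gen ⟨c, ht₀n c hc'⟩) (q ⟨c, hc'⟩)) (by
        simp only [S, if_pos hf]
        exact Finset.mem_image.mpr ⟨⟨c, hc'⟩, Finset.mem_univ _, rfl⟩)
      change (incl hn₃).toRingHom _ = 0 at e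
      rw [Polynomial.hom_eval₂] at e
      have hcomp : (incl hn₃).toRingHom.comp (hom hle₂).toRingHom = algebraMap l₁.Q n₃.Q :=
        congrArg AlgHom.toRingHom (hom_trans (AlgHom.id_comp f) hle₂ hn₃ hle₃)
      rw [hcomp, show (incl hn₃).toRingHom (n₂.gen ⟨c, ht₀n c hc'⟩) = n₃.gen ⟨c, hc⟩ from incl_gen hn₃ _] at e
      exact e
    · have : algebraMap l₁.Q n₃.Q (l₁.gen ⟨b, hb⟩) = n₃.gen ⟨c, hc⟩ :=
        (hom_gen hle₃ _).trans (congrArg n₃.gen (Subtype.ext hbc))
      exact this ▸ isIntegral_algebraMap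
  -- nilpotent kernels
  obtain ⟨l'₂, hl'₂, hle₄', hs₄', hnil₄'⟩ := exists_kill_nil i hnil hle₃' hs₃'
  obtain ⟨l₂, hl₂, hle₄, hs₄, hnil₄⟩ : ∃ (l₂ : Lv R B) (_ : l₁ ≤ l₂) (h : Lv.Le f l₂ n₃),
      (Function.Surjective f → Function.Surjective (hom h)) ∧
      (Function.Surjective f → (∀ x ∈ RingHom.ker f.toRingHom, IsNilpotent x) →
        ∀ x ∈ RingHom.ker (hom h).toRingHom, IsNilpotent x) := by
    by_cases hf : Function.Surjective f ∧ ∀ x ∈ RingHom.ker f.toRingHom, IsNilpotent x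
    · obtain ⟨a, ha, hb, hc, hd⟩ := exists_kill_nil f hf.2 hle₃ (hs₃ hf.1)
      exact ⟨a, ha, hb, fun _ => hc, fun _ _ => hd⟩
    · exact ⟨l₁, le_rfl, hle₃, hs₃, fun a b => absurd ⟨a, b⟩ hf⟩
  refine ⟨⟨(l₂, n₃, l'₂), hle₄, hle₄', hs₄', hnil₄', hs₄, hnil₄, fun hf => ?_⟩, hl₁.trans hl₂,
    (hn₁.trans hn₂).trans hn₃, hl'₁.trans hl'₂⟩
  refine RingHom.IsIntegral.tower_top (incl hl₂).toRingHom _ ?_
  have e : (hom hle₄).toRingHom.comp (incl hl₂).toRingHom = (hom hle₃).toRingHom :=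
    congrArg AlgHom.toRingHom (hom_trans (f := AlgHom.id R B) (g := f) (AlgHom.comp_id f) hl₂ hle₄ hle₃)
  exact e ▸ hint₃ hf

end Groth.Agent.LvSys47

end
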